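import Groth.Agent.Lib.Helper73.SkMod.CodepthAbstract
import Groth.Agent.Lib.Helper73.SkMod.TrdegChart
import Groth.Agent.Lib.Helper73.DimFT.Spec

/-!
# Fibre rings equidimensional of dimension `d`: the local fibre dimension is `d` (helper73)
-/

set_option autoImplicit false
set_option linter.style.haveILetI false
universe u
open CategoryTheory AlgebraicGeometry TopologicalSpace Topology Limits TensorProduct LocCoh

namespace Groth.Agent.Lib.Helper73

/-- In the spectrum of a finite type algebra over a field, the closure of a point `Q` has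
dimension `dim T/Q`. -/
theorem topologicalKrullDim_closure_singleton_primeSpectrum (k : Type u) [Field k] (T : Type u)
    [CommRing T] [Algebra k T] [Algebra.FiniteType k T] (Q : PrimeSpectrum T) :
    topologicalKrullDim ↥(closure ({Q} : Set (PrimeSpectrum T))) =
      ringKrullDim (T ⧸ Q.asIdeal) := by
  rw [(isDimFun_quotDim k).topologicalKrullDim_closure_singleton Q, ← coe_quotDim k Q]
  rfl

/-- A point of a prime spectrum without proper generizations is a minimal prime. -/
theorem mem_minimalPrimes_of_forall_specializes {T : Type u} [CommRing T] (Q : PrimeSpectrum T)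
    (h : ∀ Q' : PrimeSpectrum T, Q' ⤳ Q → Q' = Q) : Q.asIdeal ∈ minimalPrimes T := by
  refine ⟨⟨Q.2, bot_le⟩, ?_⟩
  rintro P' ⟨hP', -⟩ hle
  have h1 : (⟨P', hP'⟩ : PrimeSpectrum T) ⤳ Q := by
    rw [← PrimeSpectrum.le_iff_specializes]
    exact hle
  have h2 := h _ h1
  rw [← h2]

/-- The dimension of the closure of a point is invariant under homeomorphisms. -/
theorem topologicalKrullDim_closure_singleton_homeomorph {X Y : Type*} [TopologicalSpace X]
    [TopologicalSpace Y] (h : X ≃ₜ Y) (x : X) :
    topologicalKrullDim ↥(closure ({x} : Set X)) =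
      topologicalKrullDim ↥(closure ({h x} : Set Y)) := by
  have e1 : h '' closure ({x} : Set X) = closure ({h x} : Set Y) := by
    rw [h.image_closure, Set.image_singleton]
  have h2 := (h.image (closure ({x} : Set X))).isHomeomorph.topologicalKrullDim_eq
  rw [h2, e1]

section

variable (R S : Type u) [CommRing R] [CommRing S] [Algebra R S] [Algebra.FiniteType R S]

instance : LocallyOfFiniteType (specAlg R S) := by
  rw [HasRingHomProperty.Spec_iff (P := @LocallyOfFiniteType)]
  exact (RingHom.finiteType_algebraMap (A := R) (B := S)).mpr inferInstance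

/-- If the fibre rings of `R → S` are equidimensional of dimension `d`, the residual transcendence
degree at a maximal point of a fibre is `d`. -/
theorem resTrdegNat_eq_of_maximal_of_equidim (d : ℕ)
    (heq : ∀ p : PrimeSpectrum R, ∀ P ∈ minimalPrimes (p.asIdeal.Fiber S),
      ringKrullDim (p.asIdeal.Fiber S ⧸ P) = (d : WithBot ℕ∞))
    (z : PrimeSpectrum S)
    (hzmax : ∀ t : PrimeSpectrum S, t ⤳ z → (specAlg R S) t = (specAlg R S) z → t = z) :
    resTrdegNat (specAlg R S) z = d := by
  set f := specAlg R S with hf
  let p : PrimeSpectrum R := f z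
  -- the homeomorphism between the fibre and the spectrum of the fibre ring
  let iso := Spec.fiberToSpecResidueFieldIso R S p
  let h : ↥(f.fiber p) ≃ₜ PrimeSpectrum (p.asIdeal.Fiber S) :=
    Scheme.homeoOfIso (Arrow.leftFunc.mapIso iso)
  -- the point of the fibre is maximal
  have hmax : ∀ w : ↥(f.fiber p), w ⤳ f.asFiber z → w = f.asFiber z := by
    intro w hw
    have h1 : f.fiberι p w ⤳ z := by
      have := hw.map (f.fiberι p).continuous
      rwa [f.fiberι_asFiber z] at this
    have h2 := hzmax _ h1 (map_fiberι_eq f p w)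
    apply (f.fiberι p).isEmbedding.injective
    rw [h2, f.fiberι_asFiber z]
  have hmax' : ∀ Q' : PrimeSpectrum (p.asIdeal.Fiber S), Q' ⤳ h (f.asFiber z) →
      Q' = h (f.asFiber z) := by
    intro Q' hQ'
    have h1 : h.symm Q' ⤳ f.asFiber z := by
      have := hQ'.map h.symm.continuous
      rwa [h.symm_apply_apply] at this
    rw [← hmax _ h1, h.apply_symm_apply]
  have hmin := mem_minimalPrimes_of_forall_specializes _ hmax'
  have hdim := heq p _ hmin
  have h1 := topologicalKrullDim_closure_asFiber f z
  rw [topologicalKrullDim_closure_singleton_homeomorph h (f.asFiber z),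
    topologicalKrullDim_closure_singleton_primeSpectrum p.asIdeal.ResidueField, hdim] at h1
  exact_mod_cast h1.symm

/-- If the fibre rings of `R → S` are equidimensional of dimension `d`, the local fibre dimension
is `d` everywhere. -/
theorem fibreDimAt_eq_of_equidim (d : ℕ)
    (heq : ∀ p : PrimeSpectrum R, ∀ P ∈ minimalPrimes (p.asIdeal.Fiber S),
      ringKrullDim (p.asIdeal.Fiber S ⧸ P) = (d : WithBot ℕ∞))
    (q : PrimeSpectrum S) :
    FlatMor.fibreDimAt (specAlg R S) q = ((d : ℕ) : WithBot ℕ∞) := by
  obtain ⟨z, hzq, hgz, hzmax, hfd⟩ :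
      ∃ z : PrimeSpectrum S, z ⤳ q ∧ (specAlg R S) z = (specAlg R S) q ∧
        (∀ t : PrimeSpectrum S, t ⤳ z → (specAlg R S) t = (specAlg R S) z → t = z) ∧
        FlatMor.fibreDimAt (specAlg R S) q = ((resTrdegNat (specAlg R S) z : ℕ) : WithBot ℕ∞) :=
    exists_maximal_fiber_resTrdegNat_eq_fibreDimAt (specAlg R S) q
  rw [hfd, resTrdegNat_eq_of_maximal_of_equidim R S d heq z hzmax]

end

end Groth.Agent.Lib.Helper73
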