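import Groth.Agent.Lib.Helper73.CMFib.RegLocus
import Groth.Agent.Lib.Helper73.DimFormula.CMFlat.CMOpenFP

/-!
# Decomposition of a flat finitely presented algebra with Cohen–Macaulay fibres by fibre dimension
(helper73)
-/

set_option autoImplicit false
set_option linter.style.haveILetI false
universe u
open CategoryTheory AlgebraicGeometry TopologicalSpace Topology Limits TensorProduct LocCoh

namespace Groth.Agent.Lib.Helper73

section

variable (R S : Type u) [CommRing R] [CommRing S] [Algebra R S]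

instance flat_specAlg [Module.Flat R S] : Flat (specAlg R S) := by
  rw [HasRingHomProperty.Spec_iff (P := @Flat)]
  exact (RingHom.flat_algebraMap_iff (R := R) (S := S)).mpr inferInstance

instance lfp_specAlg [Algebra.FinitePresentation R S] :
    LocallyOfFinitePresentation (specAlg R S) := by
  rw [HasRingHomProperty.Spec_iff (P := @LocallyOfFinitePresentation)]
  exact (RingHom.finitePresentation_algebraMap (A := R) (B := S)).mpr inferInstance

theorem isCMAt_specAlg [Module.Flat R S] [Algebra.FiniteType R S]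
    (hCM : ∀ p : PrimeSpectrum R, IsCohenMacaulayRing (p.asIdeal.Fiber S))
    (q : PrimeSpectrum S) : MoreMor.IsCMAt (specAlg R S) q := by
  refine ⟨Flat.stalkMap (specAlg R S) q, ?_⟩
  have h1 := isCM_fibLocRing_of_fiber' R S q.asIdeal
    (hCM ⟨q.asIdeal.comap (algebraMap R S), inferInstance⟩)
  exact Groth.Agent.Lib.Helper56.isCohenMacaulayLocalRing_of_ringEquiv
    (fiberStalkSpecEquiv R q).symm h1

theorem isClopen_fibreDimAt_eq [Module.Flat R S] [Algebra.FinitePresentation R S]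
    (hCM : ∀ p : PrimeSpectrum R, IsCohenMacaulayRing (p.asIdeal.Fiber S)) (n : ℕ) :
    IsClopen {q : PrimeSpectrum S |
      FlatMor.fibreDimAt (specAlg R S) q = ((n : ℕ) : WithBot ℕ∞)} := by
  have hopen : ∀ m : ℕ, IsOpen {q : PrimeSpectrum S |
      FlatMor.fibreDimAt (specAlg R S) q = ((m : ℕ) : WithBot ℕ∞)} := by
    intro m
    rw [isOpen_iff_forall_mem_open]
    intro q hq
    obtain ⟨W, hqW, hW⟩ := exists_open_fibreDimAt_eq_of_isCMAt_fp (specAlg R S) q
      (isCMAt_specAlg R S hCM q)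
    refine ⟨W.1, ?_, W.2, hqW⟩
    intro w hw
    have := hW w hw
    rw [Set.mem_setOf_eq] at hq ⊢
    rw [this]
    exact hq
  refine ⟨?_, hopen n⟩
  have hcompl : {q : PrimeSpectrum S |
      FlatMor.fibreDimAt (specAlg R S) q = ((n : ℕ) : WithBot ℕ∞)}ᶜ =
      ⋃ m ∈ {m : ℕ | m ≠ n}, {q : PrimeSpectrum S |
        FlatMor.fibreDimAt (specAlg R S) q = ((m : ℕ) : WithBot ℕ∞)} := by
    ext q
    simp only [Set.mem_compl_iff, Set.mem_setOf_eq, Set.mem_iUnion, exists_prop]
    obtain ⟨m, hm⟩ := exists_nat_fibreDimAt (specAlg R S) q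
    constructor
    · intro h
      refine ⟨m, ?_, hm⟩
      rintro rfl
      exact h hm
    · rintro ⟨m', hm', hq⟩ h
      rw [h] at hq
      have : n = m' := by exact_mod_cast hq
      exact hm' this.symm
  rw [← isOpen_compl_iff, hcompl]
  exact isOpen_biUnion fun m _ => hopen m

theorem exists_bound_fibreDimAt [Algebra.FiniteType R S] :
    ∃ N : ℕ, ∀ q : PrimeSpectrum S,
      FlatMor.fibreDimAt (specAlg R S) q ≤ ((N : ℕ) : WithBot ℕ∞) := by
  have hopen : ∀ m : ℕ, IsOpen {q : PrimeSpectrum S |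
      FlatMor.fibreDimAt (specAlg R S) q ≤ ((m : ℕ) : WithBot ℕ∞)} :=
    fun m => isOpen_fibreDimAt_le m _ _ (specAlg R S)
  have hcover : (Set.univ : Set (PrimeSpectrum S)) ⊆ ⋃ m : ℕ, {q : PrimeSpectrum S |
      FlatMor.fibreDimAt (specAlg R S) q ≤ ((m : ℕ) : WithBot ℕ∞)} := by
    intro q _
    obtain ⟨m, hm⟩ := exists_nat_fibreDimAt (specAlg R S) q
    exact Set.mem_iUnion.mpr ⟨m, hm.le⟩
  obtain ⟨t, ht⟩ := isCompact_univ.elim_finite_subcover _ hopen hcover
  refine ⟨t.sup id, fun q => ?_⟩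
  obtain ⟨m, hmt, hm⟩ : ∃ m ∈ t, FlatMor.fibreDimAt (specAlg R S) q ≤
      ((m : ℕ) : WithBot ℕ∞) := by
    have := ht (Set.mem_univ q)
    simpa using this
  refine hm.trans ?_
  have : m ≤ t.sup id := Finset.le_sup (f := id) hmt
  exact_mod_cast this

section Idem

variable [Algebra.FiniteType R S] (e : S) (he : IsIdempotentElem e)
include he

/-- The image of `1 - e` in the fibre local ring at a prime of `S/(1-e)` vanishes. -/
theorem algebraMap_one_sub_idem_eq_zero (r : PrimeSpectrum (S ⧸ Ideal.span {1 - e})) :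
    algebraMap S (EGA4.FibLocRing R S (r.asIdeal.comap (Ideal.Quotient.mk (Ideal.span {1 - e}))))
      (1 - e) = 0 := by
  haveI : IsLocalRing (EGA4.FibLocRing R S
      (r.asIdeal.comap (Ideal.Quotient.mk (Ideal.span {1 - e})))) :=
    Groth.Agent.Lib.Helper77.FlatDepth.fibLoc_isLocalRing R _ _
  have hidem : IsIdempotentElem (algebraMap S (EGA4.FibLocRing R S
      (r.asIdeal.comap (Ideal.Quotient.mk (Ideal.span {1 - e})))) (1 - e)) :=
    he.one_sub.map _
  have hmem : (1 - e) ∈ (PrimeSpectrum.comap (Ideal.Quotient.mk (Ideal.span {1 - e})) r).asIdeal := by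
    show Ideal.Quotient.mk (Ideal.span {1 - e}) (1 - e) ∈ r.asIdeal
    rw [Ideal.Quotient.eq_zero_iff_mem.mpr (Ideal.mem_span_singleton_self (1 - e))]
    exact zero_mem _
  have hcl := comap_closedPoint_fibLocRing R
    (PrimeSpectrum.comap (Ideal.Quotient.mk (Ideal.span {1 - e})) r)
  have h2 : (1 - e) ∈ (PrimeSpectrum.comap (algebraMap S (EGA4.FibLocRing R S
      (PrimeSpectrum.comap (Ideal.Quotient.mk (Ideal.span {1 - e})) r).asIdeal))
      (IsLocalRing.closedPoint (EGA4.FibLocRing R S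
        (PrimeSpectrum.comap (Ideal.Quotient.mk (Ideal.span {1 - e})) r).asIdeal))).asIdeal := by
    rw [hcl]
    exact hmem
  have h3 : algebraMap S (EGA4.FibLocRing R S
      (r.asIdeal.comap (Ideal.Quotient.mk (Ideal.span {1 - e})))) (1 - e) ∈
      IsLocalRing.maximalIdeal (EGA4.FibLocRing R S
        (r.asIdeal.comap (Ideal.Quotient.mk (Ideal.span {1 - e})))) := h2
  have hunit : IsUnit (1 - algebraMap S (EGA4.FibLocRing R S
      (r.asIdeal.comap (Ideal.Quotient.mk (Ideal.span {1 - e})))) (1 - e)) := by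
    by_contra hnu
    have h4 := (IsLocalRing.mem_maximalIdeal _).mpr hnu
    have h5 := Ideal.add_mem _ h4 h3
    rw [sub_add_cancel] at h5
    exact (IsLocalRing.maximalIdeal.isMaximal _).ne_top
      ((Ideal.eq_top_iff_one _).mpr h5)
  have h6 : algebraMap S (EGA4.FibLocRing R S
      (r.asIdeal.comap (Ideal.Quotient.mk (Ideal.span {1 - e})))) (1 - e) *
      (1 - algebraMap S (EGA4.FibLocRing R S
      (r.asIdeal.comap (Ideal.Quotient.mk (Ideal.span {1 - e})))) (1 - e)) = 0 := by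
    rw [mul_sub, mul_one, hidem.eq, sub_self]
  exact (hunit.mul_left_eq_zero).mp h6

theorem fibLocQuotMap_bijective_of_idem (r : PrimeSpectrum (S ⧸ Ideal.span {1 - e})) :
    Function.Bijective (fibLocQuotMap R (Ideal.span {1 - e}) r.asIdeal) := by
  refine ⟨?_, fibLocQuotMap_surjective R _ r.asIdeal⟩
  rw [RingHom.injective_iff_ker_eq_bot, ker_fibLocQuotMap, Ideal.map_span, Set.image_singleton,
    algebraMap_one_sub_idem_eq_zero R S e he r]
  simp

/-- The fibre local rings of `S/(1-e)` are those of `S`. -/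
noncomputable def fibLocQuotEquivOfIdem (r : PrimeSpectrum (S ⧸ Ideal.span {1 - e})) :
    EGA4.FibLocRing R S (r.asIdeal.comap (Ideal.Quotient.mk (Ideal.span {1 - e}))) ≃+*
      EGA4.FibLocRing R (S ⧸ Ideal.span {1 - e}) r.asIdeal :=
  RingEquiv.ofBijective _ (fibLocQuotMap_bijective_of_idem R S e he r)

theorem fibreDimAt_specAlg_quot_idem (r : PrimeSpectrum (S ⧸ Ideal.span {1 - e})) :
    FlatMor.fibreDimAt (specAlg R (S ⧸ Ideal.span {1 - e})) r =
      FlatMor.fibreDimAt (specAlg R S)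
        (PrimeSpectrum.comap (Ideal.Quotient.mk (Ideal.span {1 - e})) r) := by
  rw [fibreDimAt_specAlg_quot' R S _ r,
    fibreDimAt_eq (specAlg R S) (PrimeSpectrum.comap (Ideal.Quotient.mk (Ideal.span {1 - e})) r),
    ringKrullDim_eq_of_ringEquiv (fiberStalkSpecEquiv R
      (PrimeSpectrum.comap (Ideal.Quotient.mk (Ideal.span {1 - e})) r))]
  congr 1
  exact (ringKrullDim_eq_of_ringEquiv (fibLocQuotEquivOfIdem R S e he r)).symm

theorem isCohenMacaulayRing_fiber_quot_idem
    (hCM : ∀ p : PrimeSpectrum R, IsCohenMacaulayRing (p.asIdeal.Fiber S))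
    (p : PrimeSpectrum R) :
    IsCohenMacaulayRing (p.asIdeal.Fiber (S ⧸ Ideal.span {1 - e})) := by
  haveI : IsNoetherianRing (p.asIdeal.Fiber (S ⧸ Ideal.span {1 - e})) :=
    Algebra.FiniteType.isNoetherianRing p.asIdeal.ResidueField _
  refine ⟨fun Q _ => ?_⟩
  let r : PrimeSpectrum (S ⧸ Ideal.span {1 - e}) :=
    ⟨Q.comap (Algebra.TensorProduct.includeRight :
      (S ⧸ Ideal.span {1 - e}) →ₐ[R] p.asIdeal.Fiber (S ⧸ Ideal.span {1 - e})), inferInstance⟩
  have h1 : IsCohenMacaulayLocalRing (EGA4.FibLocRing R S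
      (r.asIdeal.comap (Ideal.Quotient.mk (Ideal.span {1 - e})))) :=
    isCM_fibLocRing_of_fiber' R S (r.asIdeal.comap (Ideal.Quotient.mk (Ideal.span {1 - e})))
      (hCM ⟨(r.asIdeal.comap (Ideal.Quotient.mk (Ideal.span {1 - e}))).comap (algebraMap R S),
        inferInstance⟩)
  have h2 := Groth.Agent.Lib.Helper56.isCohenMacaulayLocalRing_of_ringEquiv
    (fibLocQuotEquivOfIdem R S e he r) h1
  exact Groth.Agent.Lib.Helper56.isCohenMacaulayLocalRing_of_ringEquiv
    (Groth.Agent.Lib.Helper56.fiberLocEquiv R (S ⧸ Ideal.span {1 - e}) p.asIdeal Q).symm h2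

end Idem

theorem topologicalKrullDim_closure_fiber_point {X Y : Scheme.{u}} (f : X ⟶ Y)
    [LocallyOfFiniteType f] (z : X) (p : Y) (hp : f z = p) (w : ↥(f.fiber p))
    (hw : f.fiberι p w = z) :
    topologicalKrullDim ↥(closure ({w} : Set ↥(f.fiber p))) =
      ((resTrdegNat f z : ℕ) : WithBot ℕ∞) := by
  subst hp
  have : w = f.asFiber z := by
    apply (f.fiberι (f z)).isEmbedding.injective
    rw [hw, f.fiberι_asFiber z]
  rw [this]
  exact topologicalKrullDim_closure_asFiber f z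

section Minimal

variable [Algebra.FiniteType R S]

/-- The dimension of an irreducible component of a fibre ring is the local fibre dimension at its
generic point. -/
theorem exists_fibreDimAt_eq_ringKrullDim_quot_minimalPrime (p : PrimeSpectrum R)
    (P : Ideal (p.asIdeal.Fiber S)) (hP : P ∈ minimalPrimes (p.asIdeal.Fiber S)) :
    ∃ z : PrimeSpectrum S,
      FlatMor.fibreDimAt (specAlg R S) z = ringKrullDim (p.asIdeal.Fiber S ⧸ P) := by
  set f := specAlg R S with hf
  let p' : ↥(Spec (CommRingCat.of R)) := p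
  let iso := Spec.fiberToSpecResidueFieldIso R S p
  let h : ↥(f.fiber p') ≃ₜ PrimeSpectrum (p.asIdeal.Fiber S) :=
    Scheme.homeoOfIso (Arrow.leftFunc.mapIso iso)
  haveI : P.IsPrime := hP.1.1
  let Pp : PrimeSpectrum (p.asIdeal.Fiber S) := ⟨P, inferInstance⟩
  have hz : f (f.fiberι p' (h.symm Pp)) = p' := map_fiberι_eq f p' (h.symm Pp)
  have hmin' : ∀ Q' : PrimeSpectrum (p.asIdeal.Fiber S), Q' ⤳ Pp → Q' = Pp := by
    intro Q' hQ'
    rw [← PrimeSpectrum.le_iff_specializes] at hQ'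
    exact PrimeSpectrum.ext (le_antisymm hQ' (hP.2 ⟨Q'.2, bot_le⟩ hQ'))
  have hmaxw : ∀ w' : ↥(f.fiber p'), w' ⤳ h.symm Pp → w' = h.symm Pp := by
    intro w' hw'
    have h1 : h w' ⤳ Pp := by
      have := hw'.map h.continuous
      rwa [h.apply_symm_apply] at this
    have := hmin' _ h1
    rw [← h.symm_apply_apply w', this]
  have hzmax : ∀ t : PrimeSpectrum S, t ⤳ f.fiberι p' (h.symm Pp) →
      f t = f (f.fiberι p' (h.symm Pp)) → t = f.fiberι p' (h.symm Pp) := by
    intro t ht hft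
    have : t ∈ Set.range (f.fiberι p') := by
      rw [f.range_fiberι p']
      exact hft.trans hz
    obtain ⟨w', rfl⟩ := this
    have : w' ⤳ h.symm Pp := (f.fiberι p').isEmbedding.isInducing.specializes_iff.mp ht
    rw [hmaxw w' this]
  refine ⟨f.fiberι p' (h.symm Pp), ?_⟩
  rw [fibreDimAt_eq_resTrdegNat_of_maximal f _ hzmax,
    ← topologicalKrullDim_closure_fiber_point f _ p' hz (h.symm Pp) rfl,
    topologicalKrullDim_closure_singleton_homeomorph h (h.symm Pp),
    h.apply_symm_apply,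
    topologicalKrullDim_closure_singleton_primeSpectrum p.asIdeal.ResidueField]

end Minimal

section Idem2

variable [Algebra.FiniteType R S] (e : S) (he : IsIdempotentElem e)
include he

theorem ringKrullDim_fiber_quot_idem_quot_minimalPrime (d : ℕ)
    (hd : ∀ q : PrimeSpectrum S, e ∉ q.asIdeal →
      FlatMor.fibreDimAt (specAlg R S) q = ((d : ℕ) : WithBot ℕ∞))
    (p : PrimeSpectrum R) (P : Ideal (p.asIdeal.Fiber (S ⧸ Ideal.span {1 - e})))
    (hP : P ∈ minimalPrimes (p.asIdeal.Fiber (S ⧸ Ideal.span {1 - e}))) :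
    ringKrullDim (p.asIdeal.Fiber (S ⧸ Ideal.span {1 - e}) ⧸ P) = ((d : ℕ) : WithBot ℕ∞) := by
  obtain ⟨z, hz⟩ := exists_fibreDimAt_eq_ringKrullDim_quot_minimalPrime R
    (S ⧸ Ideal.span {1 - e}) p P hP
  rw [← hz, fibreDimAt_specAlg_quot_idem R S e he z]
  apply hd
  intro hmem
  have h1 : (1 - e) ∈ (PrimeSpectrum.comap (Ideal.Quotient.mk (Ideal.span {1 - e})) z).asIdeal := by
    show Ideal.Quotient.mk (Ideal.span {1 - e}) (1 - e) ∈ z.asIdeal
    rw [Ideal.Quotient.eq_zero_iff_mem.mpr (Ideal.mem_span_singleton_self (1 - e))]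
    exact zero_mem _
  have h2 := Ideal.add_mem _ h1 hmem
  rw [sub_add_cancel] at h2
  exact (PrimeSpectrum.comap (Ideal.Quotient.mk (Ideal.span {1 - e})) z).2.ne_top
    ((Ideal.eq_top_iff_one _).mpr h2)

end Idem2

end

end Groth.Agent.Lib.Helper73
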