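import Groth.Agent.Lib.Helper94.CIField

/-!
# Regular sequences in Cohen–Macaulay local rings via dimension (helper73)
-/

set_option autoImplicit false
universe u
open IsLocalRing RingTheory.Sequence

namespace Groth.Agent.Lib.Helper73

/-- In a Cohen–Macaulay local ring, elements of the maximal ideal form a regular sequence iff they
cut the dimension down by (at least) their number. -/
theorem isRegular_iff_dim_le (Λ : Type u) [CommRing Λ] [LocCoh.IsCohenMacaulayLocalRing Λ]
    (rs : List Λ) (hmem : ∀ r ∈ rs, r ∈ maximalIdeal Λ) :
    IsRegular Λ rs ↔ ringKrullDim (Λ ⧸ Ideal.ofList rs) + rs.length ≤ ringKrullDim Λ := by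
  classical
  constructor
  · intro h
    exact le_of_eq (ringKrullDim_add_length_eq_ringKrullDim_of_isRegular rs h)
  · intro h
    apply Groth.Agent.Lib.Helper94.CIField.isRegular_of_ringKrullDim_quotient Λ rs hmem
    apply le_antisymm h
    have hK : Ideal.ofList rs ≤ maximalIdeal Λ := by
      unfold Ideal.ofList
      rw [Ideal.span_le]
      intro r hr
      exact hmem r hr
    have h3 := ringKrullDim_le_ringKrullDim_quotient_add_spanFinrank (Ideal.ofList rs)
      (by rw [ringJacobson_eq_maximalIdeal]; exact hK)
    have h2 : (Ideal.ofList rs).spanFinrank ≤ rs.length := by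
      have hfin : {r | r ∈ rs}.Finite := List.finite_toSet rs
      refine le_trans (Submodule.spanFinrank_span_le_ncard_of_finite hfin) ?_
      have : {r | r ∈ rs} = (rs.toFinset : Set Λ) := by ext; simp
      rw [this, Set.ncard_coe_finset]
      exact List.toFinset_card_le rs
    refine le_trans h3 ?_
    gcongr

end Groth.Agent.Lib.Helper73
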