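import Groth.Agent.Lib.Helper73.CMFib.EquidimFibre
import Groth.Agent.Lib.Helper73.CMFib.RegSeqCM
import Groth.Agent.Lib.Helper56.FibreCM

/-!
# The locus where a sequence is regular on the fibre local rings, Cohen–Macaulay equidimensional
fibres (helper73)
-/

set_option autoImplicit false
set_option linter.style.haveILetI false
universe u
open CategoryTheory AlgebraicGeometry TopologicalSpace Topology Limits TensorProduct LocCoh

namespace Groth.Agent.Lib.Helper73

section

variable (R S : Type u) [CommRing R] [CommRing S] [Algebra R S]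

theorem isCM_fibLocRing_of_fiber' (r : Ideal S) [r.IsPrime]
    (h : IsCohenMacaulayRing ((r.comap (algebraMap R S)).Fiber S)) :
    IsCohenMacaulayLocalRing (EGA4.FibLocRing R S r) := by
  obtain ⟨Q, hQ, hQr⟩ := Groth.Agent.Lib.Helper56.exists_fiber_prime R S r
  have h1 := h.isCohenMacaulayLocalRing_localization Q
  have h2 := Groth.Agent.Lib.Helper56.isCohenMacaulayLocalRing_of_ringEquiv
    (Groth.Agent.Lib.Helper56.fiberLocEquiv R S _ Q) h1
  have key : ∀ (r' : Ideal S) [r'.IsPrime], r' = r →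
      IsCohenMacaulayLocalRing (EGA4.FibLocRing R S r') →
      IsCohenMacaulayLocalRing (EGA4.FibLocRing R S r) := by
    intro r' _ hr' hh
    subst hr'
    exact hh
  exact key _ hQr h2

variable [Algebra.FiniteType R S]

theorem specAlg_comap_mk' (I : Ideal S) (z : PrimeSpectrum (S ⧸ I)) :
    (specAlg R S) (PrimeSpectrum.comap (Ideal.Quotient.mk I) z) = (specAlg R (S ⧸ I)) z := by
  have : Spec.map (CommRingCat.ofHom (Ideal.Quotient.mk I)) ≫ specAlg R S = specAlg R (S ⧸ I) := by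
    unfold specAlg
    rw [← Spec.map_comp, ← CommRingCat.ofHom_comp, Ideal.Quotient.mk_comp_algebraMap]
  rw [← this]
  rfl

theorem fibreDimAt_specAlg_quot' (I : Ideal S) (x : PrimeSpectrum (S ⧸ I)) :
    FlatMor.fibreDimAt (specAlg R (S ⧸ I)) x =
      ringKrullDim (EGA4.FibLocRing R (S ⧸ I) x.asIdeal) +
        ((resTrdegNat (specAlg R S) (PrimeSpectrum.comap (Ideal.Quotient.mk I) x) : ℕ) :
          WithBot ℕ∞) := by
  have h1 := fibreDimAt_eq (specAlg R (S ⧸ I)) x
  have eΩ := fiberStalkSpecEquiv R x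
  have hcomp : Spec.map (CommRingCat.ofHom (Ideal.Quotient.mk I)) ≫ specAlg R S =
      specAlg R (S ⧸ I) := by
    unfold specAlg
    rw [← Spec.map_comp, ← CommRingCat.ofHom_comp, Ideal.Quotient.mk_comp_algebraMap]
  have h3 : resTrdegNat (specAlg R (S ⧸ I)) x =
      resTrdegNat (specAlg R S) (PrimeSpectrum.comap (Ideal.Quotient.mk I) x) := by
    rw [← hcomp]
    haveI : IsClosedImmersion (Spec.map (CommRingCat.ofHom (Ideal.Quotient.mk I))) :=
      IsClosedImmersion.spec_of_surjective _ Ideal.Quotient.mk_surjective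
    exact resTrdegNat_comp_of_isPreimmersion (Spec.map (CommRingCat.ofHom (Ideal.Quotient.mk I)))
      (specAlg R S) x
  rw [h1, ringKrullDim_eq_of_ringEquiv eΩ, h3]

/-- Pointwise form: regularity of the sequence on the fibre local ring at `q ⊇ (f)` is the
inequality `dim_q (fibre of S/(f)) + length ≤ d`. -/
theorem isRegular_fibLoc_iff_core (d : ℕ)
    (hCM : ∀ p : PrimeSpectrum R, IsCohenMacaulayRing (p.asIdeal.Fiber S))
    (heq : ∀ p : PrimeSpectrum R, ∀ P ∈ minimalPrimes (p.asIdeal.Fiber S),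
      ringKrullDim (p.asIdeal.Fiber S ⧸ P) = (d : WithBot ℕ∞))
    (f : List S) (I : Ideal S) (hI : Ideal.ofList f = I) (q' : PrimeSpectrum (S ⧸ I)) :
    RingTheory.Sequence.IsRegular
        (EGA4.FibLocRing R S (q'.asIdeal.comap (Ideal.Quotient.mk I)))
        (f.map (algebraMap S (EGA4.FibLocRing R S (q'.asIdeal.comap (Ideal.Quotient.mk I))))) ↔
      FlatMor.fibreDimAt (specAlg R (S ⧸ I)) q' + ((f.length : ℕ) : WithBot ℕ∞) ≤
        ((d : ℕ) : WithBot ℕ∞) := by
  haveI hCMΛ : IsCohenMacaulayLocalRing (EGA4.FibLocRing R S (q'.asIdeal.comap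
      (Ideal.Quotient.mk I))) :=
    isCM_fibLocRing_of_fiber' R S (q'.asIdeal.comap (Ideal.Quotient.mk I))
      (hCM ⟨(q'.asIdeal.comap (Ideal.Quotient.mk I)).comap (algebraMap R S), inferInstance⟩)
  have hmem : ∀ r ∈ f.map (algebraMap S (EGA4.FibLocRing R S (q'.asIdeal.comap
      (Ideal.Quotient.mk I)))), r ∈ IsLocalRing.maximalIdeal (EGA4.FibLocRing R S
        (q'.asIdeal.comap (Ideal.Quotient.mk I))) := by
    intro r hr
    obtain ⟨s, hs, rfl⟩ := List.mem_map.mp hr
    have hsI : s ∈ I := by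
      rw [← hI]
      exact Ideal.subset_span hs
    have hsq : s ∈ (PrimeSpectrum.comap (Ideal.Quotient.mk I) q').asIdeal := by
      show Ideal.Quotient.mk I s ∈ q'.asIdeal
      rw [Ideal.Quotient.eq_zero_iff_mem.mpr hsI]
      exact zero_mem _
    have hcl := comap_closedPoint_fibLocRing R (PrimeSpectrum.comap (Ideal.Quotient.mk I) q')
    have h2 : s ∈ (PrimeSpectrum.comap (algebraMap S (EGA4.FibLocRing R S
        (PrimeSpectrum.comap (Ideal.Quotient.mk I) q').asIdeal))
        (IsLocalRing.closedPoint (EGA4.FibLocRing R S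
          (PrimeSpectrum.comap (Ideal.Quotient.mk I) q').asIdeal))).asIdeal := by
      rw [hcl]
      exact hsq
    exact h2
  rw [isRegular_iff_dim_le _ _ hmem]
  have hker : Ideal.ofList (f.map (algebraMap S (EGA4.FibLocRing R S (q'.asIdeal.comap
      (Ideal.Quotient.mk I))))) = I.map (algebraMap S (EGA4.FibLocRing R S (q'.asIdeal.comap
      (Ideal.Quotient.mk I)))) := by
    refine (Ideal.map_ofList _ f).symm.trans ?_
    exact congrArg _ hI
  have hker2 : Ideal.ofList (f.map (algebraMap S (EGA4.FibLocRing R S (q'.asIdeal.comap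
      (Ideal.Quotient.mk I))))) = RingHom.ker (fibLocQuotMap R I q'.asIdeal) :=
    hker.trans (ker_fibLocQuotMap R I q'.asIdeal).symm
  let e : (EGA4.FibLocRing R S (q'.asIdeal.comap (Ideal.Quotient.mk I)) ⧸
      Ideal.ofList (f.map (algebraMap S (EGA4.FibLocRing R S (q'.asIdeal.comap
      (Ideal.Quotient.mk I)))))) ≃+* EGA4.FibLocRing R (S ⧸ I) q'.asIdeal :=
    (Ideal.quotEquivOfEq hker2).trans
      (RingHom.quotientKerEquivOfSurjective (fibLocQuotMap_surjective R I q'.asIdeal))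
  rw [ringKrullDim_eq_of_ringEquiv e, List.length_map]
  have hD := fibreDimAt_eq_of_equidim R S d heq (PrimeSpectrum.comap (Ideal.Quotient.mk I) q')
  rw [fibreDimAt_eq (specAlg R S) (PrimeSpectrum.comap (Ideal.Quotient.mk I) q'),
    ringKrullDim_eq_of_ringEquiv
      (fiberStalkSpecEquiv R (PrimeSpectrum.comap (Ideal.Quotient.mk I) q'))] at hD
  have hD' := fibreDimAt_specAlg_quot' R S I q'
  haveI : IsLocalRing (EGA4.FibLocRing R (S ⧸ I) q'.asIdeal) :=
    Groth.Agent.Lib.Helper77.FlatDepth.fibLoc_isLocalRing R _ q'.asIdeal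
  haveI : IsNoetherianRing (EGA4.FibLocRing R (S ⧸ I) q'.asIdeal) :=
    isNoetherianRing_of_surjective _ _ (fibLocQuotMap R I q'.asIdeal)
      (fibLocQuotMap_surjective R I q'.asIdeal)
  obtain ⟨m, hm⟩ := Groth.Agent.Lib.Helper77.FlatDepth.exists_nat_dim
    (EGA4.FibLocRing R S (q'.asIdeal.comap (Ideal.Quotient.mk I)))
  obtain ⟨m', hm'⟩ := Groth.Agent.Lib.Helper77.FlatDepth.exists_nat_dim
    (EGA4.FibLocRing R (S ⧸ I) q'.asIdeal)
  have hm2 : ringKrullDim (EGA4.FibLocRing R S
      (PrimeSpectrum.comap (Ideal.Quotient.mk I) q').asIdeal) = m := hm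
  rw [hm2] at hD
  rw [hD', hm', hm]
  have hD2 : m + resTrdegNat (specAlg R S) (PrimeSpectrum.comap (Ideal.Quotient.mk I) q') = d := by
    exact_mod_cast hD
  constructor
  · intro h
    have h' : m' + f.length ≤ m := by exact_mod_cast h
    exact_mod_cast (by omega : m' +
      resTrdegNat (specAlg R S) (PrimeSpectrum.comap (Ideal.Quotient.mk I) q') + f.length ≤ d)
  · intro h
    have h' : m' + resTrdegNat (specAlg R S) (PrimeSpectrum.comap (Ideal.Quotient.mk I) q') +
        f.length ≤ d := by exact_mod_cast h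
    exact_mod_cast (by omega : m' + f.length ≤ m)

theorem isRegular_fibLoc_iff (d : ℕ)
    (hCM : ∀ p : PrimeSpectrum R, IsCohenMacaulayRing (p.asIdeal.Fiber S))
    (heq : ∀ p : PrimeSpectrum R, ∀ P ∈ minimalPrimes (p.asIdeal.Fiber S),
      ringKrullDim (p.asIdeal.Fiber S ⧸ P) = (d : WithBot ℕ∞))
    (f : List S) (I : Ideal S) (hI : Ideal.ofList f = I) (q' : PrimeSpectrum (S ⧸ I))
    (q : PrimeSpectrum S) (hq : q = PrimeSpectrum.comap (Ideal.Quotient.mk I) q') :
    RingTheory.Sequence.IsRegular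
        (EGA4.FibLocRing R S q.asIdeal)
        (f.map (algebraMap S (EGA4.FibLocRing R S q.asIdeal))) ↔
      FlatMor.fibreDimAt (specAlg R (S ⧸ I)) q' + ((f.length : ℕ) : WithBot ℕ∞) ≤
        ((d : ℕ) : WithBot ℕ∞) := by
  subst hq
  exact isRegular_fibLoc_iff_core R S d hCM heq f I hI q'

theorem exists_nat_fibreDimAt {X Y : Scheme.{u}} (g : X ⟶ Y) [LocallyOfFiniteType g] (x : X) :
    ∃ n : ℕ, FlatMor.fibreDimAt g x = ((n : ℕ) : WithBot ℕ∞) := by
  obtain ⟨m, hm⟩ := exists_ringKrullDim_fiber_stalk_eq_natCast g x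
  refine ⟨m + resTrdegNat g x, ?_⟩
  rw [fibreDimAt_eq g x, hm]
  push_cast
  rfl

end

end Groth.Agent.Lib.Helper73
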